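import Cfsg.Agent.Lib.Spor.J4.Card
import Cfsg.Prelude.Def_Transfer

/-!
The elementary abelian normal subgroup of `2¹¹:M₂₄` inside Janko's group and the unique
decomposition of its elements.
-/

set_option autoImplicit false

namespace CfsgLib.Spor.J4.Suborbits

open CfsgLib.PresCert CfsgLib.Spor Cfsg CfsgLib.Spor.J4.Index CfsgLib.Spor.J4.Order

/-- the presented group -/
local notation "J" => Cfsg.Spor.J4

theorem psi_mem (g : M24) : psi g ∈ subH := by
  have hg : psi g ∈ Subgroup.closure {gx, gy} := M24Iso.range_toHom m24Rels ▸ ⟨g, rfl⟩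
  exact Subgroup.closure_mono (fun z hz => by
    rcases hz with rfl | rfl
    exacts [Or.inl rfl, Or.inr (Or.inl rfl)]) hg

theorem qSub_le : qSub ≤ subH := by
  rw [qSub, Subgroup.closure_le]
  intro z hz
  obtain ⟨u, -, rfl⟩ := List.mem_map.1 hz
  rw [SetLike.mem_coe, sE]
  exact mul_mem (mul_mem (psi_mem _) (gs_eq ▸ Subgroup.subset_closure (Or.inr (Or.inr rfl))))
    (inv_mem (psi_mem _))

/-- the decomposition map -/
noncomputable def decomp (p : qSub × M24) : subH :=
  ⟨(p.1 : J) * psi p.2, mul_mem (qSub_le p.1.2) (psi_mem p.2)⟩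

theorem decomp_surjective : Function.Surjective decomp := fun h => by
  obtain ⟨q, hq, n, e⟩ := subH_decomp h.2
  exact ⟨(⟨q, hq⟩, n), Subtype.ext e.symm⟩

theorem card_qSub : Nat.card qSub = 2 ^ 11 := by
  obtain ⟨h0, hq⟩ := cardLE_qSub
  have : Finite qSub := Nat.finite_of_card_ne_zero h0
  have h := Nat.card_le_card_of_surjective _ decomp_surjective
  rw [Nat.card_prod, natCard_M24, subH_card_index.1] at h
  omega

theorem decomp_injective : Function.Injective decomp := by
  have : Finite qSub := Nat.finite_of_card_ne_zero (by rw [card_qSub]; norm_num)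
  exact ((Nat.bijective_iff_surjective_and_card decomp).2 ⟨decomp_surjective, by
    rw [Nat.card_prod, natCard_M24, card_qSub, subH_card_index.1]⟩).1

theorem decomp_unique {q q' : J} (hq : q ∈ qSub) (hq' : q' ∈ qSub) {g g' : M24}
    (e : q * psi g = q' * psi g') : q = q' ∧ g = g' := by
  have h := decomp_injective (a₁ := (⟨q, hq⟩, g)) (a₂ := (⟨q', hq'⟩, g')) (Subtype.ext e)
  exact ⟨congrArg (fun p : qSub × M24 => (p.1 : J)) h, congrArg Prod.snd h⟩

theorem qSub_comm {a b : J} (ha : a ∈ qSub) (hb : b ∈ qSub) : a * b = b * a := by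
  have hgen : ∀ x ∈ {q | q ∈ basis.map sE}, ∀ y ∈ {q | q ∈ basis.map sE}, x * y = y * x := by
    intro x hx y hy
    obtain ⟨u, hu, rfl⟩ := List.mem_map.1 hx
    obtain ⟨v, hv, rfl⟩ := List.mem_map.1 hy
    exact (basis_comm hu hv).eq
  have h1 : ∀ x ∈ {q | q ∈ basis.map sE}, qSub ≤ Subgroup.centralizer {x} := by
    intro x hx
    rw [qSub, Subgroup.closure_le]
    exact fun y hy => Subgroup.mem_centralizer_singleton_iff.2 (hgen y hy x hx)
  have h2 : qSub ≤ Subgroup.centralizer (qSub : Set J) := by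
    conv_lhs => rw [qSub]
    rw [Subgroup.closure_le]
    intro x hx
    refine Subgroup.mem_centralizer_iff.2 fun y hy => ?_
    exact Subgroup.mem_centralizer_singleton_iff.1 (h1 x hx hy)
  exact Subgroup.mem_centralizer_iff.1 (h2 hb) a ha

theorem elementary_qSub : Cfsg.IsElementaryAbelian 2 qSub := by
  refine ⟨⟨⟨fun a b => Subtype.ext (qSub_comm a.2 b.2)⟩⟩, fun a ha => ?_⟩
  induction ha using Subgroup.closure_induction with
  | mem z hz =>
    obtain ⟨u, -, rfl⟩ := List.mem_map.1 hz
    rw [pow_two]; exact sE_sq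
  | one => exact one_pow 2
  | mul a b ha hb iha ihb => rw [(show Commute a b from qSub_comm ha hb).mul_pow, iha, ihb, mul_one]
  | inv a _ iha => rw [inv_pow, iha, inv_one]

theorem subH_le_normalizer : subH ≤ Subgroup.normalizer (qSub : Set J) := by
  have key : ∀ h ∈ subH, ∀ a ∈ qSub, h * a * h⁻¹ ∈ qSub := by
    intro h hh a ha
    obtain ⟨q, hq, n, rfl⟩ := subH_decomp hh
    have h2 := mul_mem (mul_mem hq (conj_mem ha n)) (inv_mem hq)
    rwa [show q * psi n * a * (q * psi n)⁻¹ = q * (psi n * a * (psi n)⁻¹) * q⁻¹ by group]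
  intro h hh
  rw [Subgroup.mem_normalizer_iff]
  refine fun a => ⟨key h hh a, fun ha => ?_⟩
  have := key h⁻¹ (inv_mem hh) _ ha
  simpa [mul_assoc] using this

end CfsgLib.Spor.J4.Suborbits
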