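import Cfsg.Agent.Lib.Spor.J4Suborbits.Data
import Cfsg.Agent.Lib.Spor.J4Suborbits.Subgroup

/-!
The seven orbits of `2¹¹:M₂₄` on its cosets in Janko's group.  The twenty orbits of `M₂₄` are merged
by traces of elements of the elementary subgroup.  As the sizes of orbits divide the order, only two
of the seven sets could coincide; this is excluded by the stabiliser of node six.
-/

set_option autoImplicit false
set_option maxRecDepth 100000

namespace CfsgLib.Spor.J4.Suborbits

open CfsgLib.PresCert CfsgLib.Spor Cfsg CfsgLib.Spor.J4.Index CfsgLib.Spor.J4.Order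
open scoped Pointwise

/-- the presented group -/
local notation "J" => Cfsg.Spor.J4

/-- checking a trace -/
noncomputable def okTrace (T : Trace) : Bool :=
  okPerm T.perm T.permInv && okW T.perm baseWord T.trios.reverse &&
    match runMoves numFacts T.moves T.trios T.src idP with
    | none => false
    | some (j, m) => Nat.beq j T.dst && Nat.beq m T.out

theorem trace_sound {T : Trace} (h : okTrace T = true) :
    ∃ v ∈ qSub, Valid T.out ∧ v • node T.src = psi (el T.out) • node T.dst := by
  simp only [okTrace, Bool.and_eq_true] at h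
  obtain ⟨⟨hp, hw⟩, h⟩ := h
  split at h
  · simp at h
  rename_i o j m hrun
  simp only [Bool.and_eq_true, Nat.beq_eq] at h
  obtain ⟨rfl, rfl⟩ := h
  obtain ⟨hva, -, -⟩ := okPerm_spec hp
  obtain ⟨hv, e⟩ := runMoves_sound facts_all _ _ _ _ _ _ hrun valid_id.1
  rw [valid_id.2, map_one, one_smul] at e
  refine ⟨psi (el T.perm) * s0 * (psi (el T.perm))⁻¹,
    conj_mem (sE_base ▸ sE_mem baseSext_lt) _, hv, ?_⟩
  rw [e, s0, ← okW_rProd hva hw, ← actProd_inv, inv_eq_of_mul_eq_one_right
    (actProd_reverse T.trios)]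

theorem merges_ok : merges.all okTrace = true := by decide +kernel

theorem loopSix_ok : (okTrace loopSix && Nat.beq loopSix.src 6 && Nat.beq loopSix.dst 6) = true := by
  decide +kernel

/-- the generators of the program for node six -/
noncomputable def gsSix : List ℕ := gens6.map fP ++ [loopSix.out]

theorem program_ok : okProgram gsSix slpSix levelsSix = true := by decide +kernel

theorem program_size : chainSize levelsSix = 9216 := by decide +kernel

/-- the class of each of the twenty orbits -/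
def cls (i : Fin 20) : Fin 7 :=
  ([0, 1, 4, 3, 6, 5, 5, 5, 5, 4, 4, 3, 5, 5, 3, 6, 3, 2, 2, 1] : List (Fin 7)).getD i 0

/-- a node in each class -/
def rep (r : Fin 7) : Fin 20 := ([0, 1, 18, 3, 2, 6, 4] : List (Fin 20)).getD r 0

/-- the sizes -/
def len (r : Fin 7) : ℕ := [1, 15180, 28336, 3400320, 32643072, 54405120, 82575360].getD r 0

theorem cls_rep : ∀ r, cls (rep r) = r := by decide +kernel

theorem merges_cover : ∀ i : Fin 20, i = rep (cls i) ∨
    (merges.any fun T => Nat.beq T.src (rep (cls i)).val && Nat.beq T.dst i.val) = true := by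
  decide +kernel

theorem cls_sum : ∀ r, ∑ i ∈ Finset.univ.filter (fun i => cls i = r), orbitBound i = len r := by
  decide +kernel

theorem sum_divides : ∀ T : Finset (Fin 7), T.Nonempty → (∑ r ∈ T, len r) ∣ 2 ^ 11 * 244823040 →
    T.card = 1 ∨ T = {4, 5} := by
  decide +kernel

/-- the point of a node -/
noncomputable def rp (r : Fin 7) : Pts := node (rep r).val

/-- the orbit -/
noncomputable def O (r : Fin 7) : Set Pts := MulAction.orbit subH (rp r)

theorem node_mem_O (i : Fin 20) : node i.val ∈ O (cls i) := by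
  rcases merges_cover i with h | h
  · show node i.val ∈ MulAction.orbit subH (node (rep (cls i)).val)
    rw [← h]
    exact MulAction.mem_orbit_self (M := subH) (node i.val)
  · obtain ⟨T, hT, h⟩ := List.any_eq_true.1 h
    simp only [Bool.and_eq_true, Nat.beq_eq] at h
    obtain ⟨v, hv, -, e⟩ := trace_sound (List.all_eq_true.1 merges_ok T hT)
    rw [h.1, h.2] at e
    refine ⟨⟨(psi (el T.out))⁻¹ * v, mul_mem (inv_mem (psi_mem _)) (qSub_le hv)⟩, ?_⟩
    show ((psi (el T.out))⁻¹ * v) • rp (cls i) = node i.val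
    rw [rp, mul_smul, e, inv_smul_smul]

theorem orbMap_mem (i : Fin 20) (q : M24 ⧸ stabNode i.val) :
    orbMap i.val q ∈ MulAction.orbit subH (node i.val) := by
  induction q using QuotientGroup.induction_on with
  | H g => exact ⟨⟨psi g, psi_mem g⟩, rfl⟩

theorem card_stab_quot (i : Fin 20) : Nat.card (M24 ⧸ stabNode i.val) ≤ orbitBound i := by
  have hpos : 0 < nodeSizes.getD i.val 0 := by
    have : ∀ j < 20, 0 < nodeSizes.getD j 0 := by decide
    exact this _ i.isLt
  rw [orbitBound, Nat.le_div_iff_mul_le hpos, ← natCard_M24, ← Subgroup.index_eq_card]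
  refine (Nat.mul_le_mul_left _ (nodeSizes_le i.isLt)).trans (le_of_eq ?_)
  rw [mul_comm, Subgroup.card_mul_index]

theorem orbit_bound_sum : ∑ i, orbitBound i = 173067389 := by decide +kernel

theorem allMap_facts :
    Function.Bijective allMap ∧ ∀ i : Fin 20, Nat.card (M24 ⧸ stabNode i.val) = orbitBound i := by
  have hs : Nat.card (Σ i : Fin 20, M24 ⧸ stabNode i.val) = ∑ i : Fin 20, Nat.card (M24 ⧸ stabNode i.val) :=
    Nat.card_sigma
  have hle : ∑ i : Fin 20, Nat.card (M24 ⧸ stabNode i.val) ≤ 173067389 := by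
    rw [← orbit_bound_sum]; exact Finset.sum_le_sum fun i _ => card_stab_quot i
  have hge := Nat.card_le_card_of_surjective allMap allMap_surjective
  rw [natCard_pts, hs] at hge
  have heq := le_antisymm hle hge
  refine ⟨(Nat.bijective_iff_surjective_and_card allMap).2
    ⟨allMap_surjective, by rw [natCard_pts, hs, heq]⟩, fun i => ?_⟩
  exact (Finset.sum_eq_sum_iff_of_le fun i _ => card_stab_quot i).1
    (heq.trans orbit_bound_sum.symm) i (Finset.mem_univ i)

/-- the classes in an orbit -/
noncomputable def inO (r : Fin 7) : Finset (Fin 7) :=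
  @Finset.filter _ (fun s => rp s ∈ O r) (fun _ => _root_.Classical.propDecidable _) Finset.univ

theorem mem_inO {r s : Fin 7} : s ∈ inO r ↔ rp s ∈ MulAction.orbit subH (rp r) :=
  (@Finset.mem_filter _ _ (fun _ => _root_.Classical.propDecidable _) _ _).trans
    ⟨fun h => h.2, fun h => ⟨Finset.mem_univ _, h⟩⟩

theorem mem_O_iff {r : Fin 7} {i : Fin 20} {q : M24 ⧸ stabNode i.val} :
    orbMap i.val q ∈ O r ↔ cls i ∈ inO r := by
  classical
  have h1 := MulAction.orbit_eq_iff.2 (orbMap_mem i q)
  have h2 : MulAction.orbit subH (node i.val) = O (cls i) := MulAction.orbit_eq_iff.2 (node_mem_O i)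
  rw [mem_inO]
  simp only [O] at h2 ⊢
  rw [← MulAction.orbit_eq_iff, ← MulAction.orbit_eq_iff, h1, h2]

theorem ncard_O (r : Fin 7) : (O r).ncard = ∑ s ∈ inO r, len s := by
  classical
  obtain ⟨hb, hc⟩ := allMap_facts
  have hA : Nat.card (Σ i : {i : Fin 20 // cls i ∈ inO r}, M24 ⧸ stabNode i.1.val) = (O r).ncard := by
    rw [← Nat.card_coe_set_eq]
    refine Nat.card_congr (Equiv.ofBijective
      (fun p => (⟨allMap ⟨p.1.1, p.2⟩, mem_O_iff.2 p.1.2⟩ : O r)) ⟨?_, ?_⟩)
    · rintro ⟨⟨i, hi⟩, q⟩ ⟨⟨j, hj⟩, q'⟩ e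
      cases hb.1 (congrArg Subtype.val e)
      rfl
    · rintro ⟨p, hp⟩
      obtain ⟨⟨i, q⟩, rfl⟩ := hb.2 p
      exact ⟨⟨⟨i, mem_O_iff.1 hp⟩, q⟩, rfl⟩
  rw [← hA, Nat.card_sigma, ← Finset.sum_subtype (Finset.univ.filter fun i => cls i ∈ inO r)
    (by simp) (fun i : Fin 20 => Nat.card (M24 ⧸ stabNode i.val))]
  simp only [hc]
  rw [← Finset.sum_fiberwise_of_maps_to (g := cls) (t := inO r) (fun i hi => (Finset.mem_filter.1 hi).2)]
  refine Finset.sum_congr rfl fun s hs => ?_
  rw [← cls_sum s, Finset.filter_filter]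
  refine Finset.sum_congr (Finset.filter_congr fun i _ => ?_) fun _ _ => rfl
  exact ⟨fun h => h.2, fun h => ⟨h ▸ hs, h⟩⟩

theorem mem_inO_self (r : Fin 7) : r ∈ inO r := by
  exact mem_inO.2 (MulAction.mem_orbit_self _)

theorem ncard_O_mul_stab (r : Fin 7) :
    (O r).ncard * Nat.card (MulAction.stabilizer subH (rp r)) = 2 ^ 11 * 244823040 := by
  rw [O, ← MulAction.index_stabilizer, mul_comm, Subgroup.card_mul_index, subH_card_index.1]

/-- the image in `M₂₄` of the stabiliser of a point -/
noncomputable def imStab (p : Pts) : Subgroup M24 where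
  carrier := {m | ∃ q ∈ qSub, (q * psi m) • p = p}
  one_mem' := ⟨1, one_mem _, by rw [map_one, one_mul, one_smul]⟩
  mul_mem' := fun {a b} ⟨q, hq, e⟩ ⟨q', hq', e'⟩ =>
    ⟨q * (psi a * q' * (psi a)⁻¹), mul_mem hq (conj_mem hq' a), by
      rw [show q * (psi a * q' * (psi a)⁻¹) * psi (a * b) = q * psi a * (q' * psi b) by
        rw [map_mul]; group, mul_smul, e', e]⟩
  inv_mem' := fun {a} ⟨q, hq, e⟩ =>
    ⟨psi a⁻¹ * q⁻¹ * (psi a⁻¹)⁻¹, conj_mem (inv_mem hq) _, by
      rw [show psi a⁻¹ * q⁻¹ * (psi a⁻¹)⁻¹ * psi a⁻¹ = (q * psi a)⁻¹ by rw [map_inv]; group,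
        inv_smul_eq_iff, e]⟩

theorem card_imStab_le (r : Fin 7) :
    Nat.card (imStab (rp r)) ≤ Nat.card (MulAction.stabilizer subH (rp r)) := by
  have : Finite subH := Nat.finite_of_card_ne_zero (by rw [subH_card_index.1]; norm_num)
  choose q hq e using fun m : imStab (rp r) => m.2
  refine Nat.card_le_card_of_injective
    (fun m => (⟨⟨q m * psi m.1, mul_mem (qSub_le (hq m)) (psi_mem _)⟩, e m⟩ :
      MulAction.stabilizer subH (rp r))) fun a b h => ?_
  exact Subtype.ext (decomp_unique (hq a) (hq b) (congrArg (fun x : MulAction.stabilizer subH (rp r) => ((x : subH) : J)) h)).2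

theorem imStab_six : 9216 ≤ Nat.card (imStab (rp 5)) := by
  rw [← program_size]
  refine le_card_of_program program_ok _ fun a ha => ?_
  have h6 : rp 5 = node 6 := rfl
  rcases List.mem_append.1 ha with ha | ha
  · obtain ⟨f, hf, rfl⟩ := List.mem_map.1 ha
    have hch := chain6_ok
    simp only [okChain, Bool.and_eq_true, List.all_eq_true, Nat.beq_eq] at hch
    obtain ⟨⟨hlt, hS⟩, hI⟩ := hch.1 f hf
    obtain ⟨hp, -, -, hst, -⟩ := facts_all f (blt_lt hlt)
    refine ⟨hp, 1, one_mem _, ?_⟩
    rw [h6, one_mul, ← hI]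
    exact hst hS
  · rw [List.mem_singleton.1 ha]
    have h := loopSix_ok
    simp only [Bool.and_eq_true, Nat.beq_eq] at h
    obtain ⟨v, hv, hval, e⟩ := trace_sound h.1.1
    rw [h.1.2, h.2] at e
    refine ⟨hval, ?_⟩
    refine ⟨v⁻¹, inv_mem hv, ?_⟩
    rw [h6, mul_smul, ← e, inv_smul_smul]

theorem inO_eq (r : Fin 7) : inO r = {r} := by
  classical
  have hcase : ∀ r, inO r = {r} ∨ inO r = {4, 5} := by
    intro r
    rcases sum_divides (inO r) ⟨r, mem_inO_self r⟩
      (by rw [← ncard_O, ← ncard_O_mul_stab r]; exact dvd_mul_right _ _) with h | h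
    · obtain ⟨s, hs⟩ := Finset.card_eq_one.1 h
      have := mem_inO_self r
      rw [hs, Finset.mem_singleton] at this
      exact Or.inl (this ▸ hs)
    · exact Or.inr h
  have h5 : inO 5 = {5} := by
    refine (hcase 5).resolve_right fun h => ?_
    have e := ncard_O_mul_stab 5
    rw [ncard_O, h, show ∑ s ∈ ({4, 5} : Finset (Fin 7)), len s = 87048192 from rfl] at e
    have := imStab_six.trans (card_imStab_le 5)
    omega
  refine (hcase r).resolve_right fun h => ?_
  have hr := mem_inO_self r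
  rw [h, Finset.mem_insert, Finset.mem_singleton] at hr
  rcases hr with rfl | rfl
  · have hm : (5 : Fin 7) ∈ inO 4 := by rw [h]; simp
    have hm' : (4 : Fin 7) ∈ inO 5 := mem_inO.2 (MulAction.mem_orbit_symm.1 (mem_inO.1 hm))
    rw [h5] at hm'
    simp at hm'
  · rw [h5] at h
    exact absurd h (by decide)

/-- the seven suborbits -/
theorem seven_orbits :
    (∀ r s : Fin 7, r ≠ s → MulAction.orbit subH (rp r) ≠ MulAction.orbit subH (rp s)) ∧
      (∀ p : Pts, ∃ r, p ∈ MulAction.orbit subH (rp r)) ∧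
      ∀ r, (MulAction.orbit subH (rp r)).ncard = len r := by
  classical
  refine ⟨fun r s hne e => hne ?_, fun p => ?_, fun r => ?_⟩
  · have hs : s ∈ inO r := by
      rw [mem_inO, e]; exact MulAction.mem_orbit_self _
    rw [inO_eq, Finset.mem_singleton] at hs
    exact hs.symm
  · obtain ⟨⟨i, q⟩, rfl⟩ := allMap_surjective p
    exact ⟨cls i, mem_O_iff.2 (mem_inO_self _)⟩
  · have h := ncard_O r
    rw [inO_eq, Finset.sum_singleton] at h
    exact h

end CfsgLib.Spor.J4.Suborbits
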