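import Cfsg.Agent.Lib.Spor.J4Suborbits.Orbits
import Cfsg.Agent.Lib.Spor.LargeJ4.Final

/-!
The seven suborbits carried to a group isomorphic to Janko's group.
-/

set_option autoImplicit false

namespace CfsgLib.Spor.J4.Suborbits

open CfsgLib.Spor Cfsg CfsgLib.Spor.J4.Index CfsgLib.Spor.J4.Order

/-- the presented group -/
local notation "J" => Cfsg.Spor.J4

variable {G : Type*} [Group G]

theorem orbits_transfer (f : J ≃* G) {N : Subgroup G} (hN : subH.map f.toMonoidHom = N) :
    N.index = 173067389 ∧ ∃ c : Fin 7 → G ⧸ N,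
      (∀ i j : Fin 7, i ≠ j → MulAction.orbit N (c i) ≠ MulAction.orbit N (c j)) ∧
      (∀ q : G ⧸ N, ∃ i : Fin 7, q ∈ MulAction.orbit N (c i)) ∧
      (List.ofFn fun i => (MulAction.orbit N (c i)).ncard) =
        [1, 15180, 28336, 3400320, 32643072, 54405120, 82575360] := by
  subst hN
  set N := subH.map f.toMonoidHom
  have hmem : ∀ a : J, f a ∈ N ↔ a ∈ subH := fun a =>
    ⟨fun ⟨b, hb, e⟩ => f.injective e ▸ hb, fun h => ⟨a, h, rfl⟩⟩
  let F : Pts → G ⧸ N := fun p => Quotient.liftOn' p (fun a => ((f a : G) : G ⧸ N)) fun a b h => by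
    rw [QuotientGroup.leftRel_apply] at h
    rw [QuotientGroup.eq, ← map_inv, ← map_mul, hmem]
    exact h
  have hFb : Function.Bijective F := by
    refine ⟨fun p q => ?_, fun q => ?_⟩
    · induction p using QuotientGroup.induction_on with
      | H a =>
        induction q using QuotientGroup.induction_on with
        | H b =>
          intro h
          change ((f a : G) : G ⧸ N) = ((f b : G) : G ⧸ N) at h
          rw [QuotientGroup.eq, ← map_inv, ← map_mul, hmem] at h
          exact QuotientGroup.eq.2 h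
    · induction q using QuotientGroup.induction_on with
      | H b => exact ⟨((f.symm b : J) : Pts), congrArg _ (f.apply_symm_apply b)⟩
  have hsmul : ∀ (a : J) (p : Pts), F (a • p) = f a • F p := by
    intro a p
    induction p using QuotientGroup.induction_on with
    | H b => exact congrArg (fun x : G => (x : G ⧸ N)) (map_mul f a b)
  have horb : ∀ p : Pts, MulAction.orbit N (F p) = F '' MulAction.orbit subH p := by
    intro p
    ext y
    constructor
    · rintro ⟨⟨_, a, ha, rfl⟩, rfl⟩
      exact ⟨a • p, ⟨⟨a, ha⟩, rfl⟩, hsmul a p⟩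
    · rintro ⟨_, ⟨⟨a, ha⟩, rfl⟩, rfl⟩
      exact ⟨⟨f a, (hmem a).2 ha⟩, (hsmul a p).symm⟩
  obtain ⟨hne, hcov, hlen⟩ := seven_orbits
  refine ⟨?_, fun r => F (rp r), fun i j hij e => hne i j hij ?_, fun q => ?_, ?_⟩
  · rw [Subgroup.index_eq_card, ← Nat.card_eq_of_bijective F hFb, natCard_pts]
  · rw [horb, horb] at e
    exact Set.image_injective.2 hFb.1 e
  · obtain ⟨p, rfl⟩ := hFb.2 q
    obtain ⟨r, hr⟩ := hcov p
    exact ⟨r, by rw [horb]; exact Set.mem_image_of_mem F hr⟩
  · have h : ∀ r, (MulAction.orbit N (F (rp r))).ncard = len r := fun r => by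
      rw [horb, Set.ncard_image_of_injective _ hFb.1, hlen]
    simp only [h]
    rfl

/-- the statement for a group with the coordinates and an isomorphism with the presented group -/
theorem suborbits_of_iso [Finite G] {z : G} {A : Type*} [AddCommGroup A]
    (E : JankoFourCentral.Eleven z A) (e : J ≃* G) (V : Subgroup G)
    (hV : Cfsg.IsElementaryAbelian 2 V) (hcard : Nat.card V = 2 ^ 11) :
    (Subgroup.normalizer (V : Set G)).index = 173067389 ∧
      ∃ c : Fin 7 → G ⧸ Subgroup.normalizer (V : Set G),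
        (∀ i j : Fin 7, i ≠ j → MulAction.orbit ↥(Subgroup.normalizer (V : Set G)) (c i) ≠
          MulAction.orbit ↥(Subgroup.normalizer (V : Set G)) (c j)) ∧
        (∀ q : G ⧸ Subgroup.normalizer (V : Set G), ∃ i : Fin 7,
          q ∈ MulAction.orbit ↥(Subgroup.normalizer (V : Set G)) (c i)) ∧
        (List.ofFn fun i => (MulAction.orbit ↥(Subgroup.normalizer (V : Set G)) (c i)).ncard) =
          [1, 15180, 28336, 3400320, 32643072, 54405120, 82575360] := by
  have hel : Cfsg.IsElementaryAbelian 2 (qSub.map e.toMonoidHom) := by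
    refine ⟨⟨⟨fun a b => Subtype.ext ?_⟩⟩, fun a ha => ?_⟩
    · obtain ⟨a', ha', ea⟩ := Subgroup.mem_map.1 a.2
      obtain ⟨b', hb', eb⟩ := Subgroup.mem_map.1 b.2
      show (a : G) * b = b * a
      rw [← ea, ← eb, ← map_mul, ← map_mul, qSub_comm ha' hb']
    · obtain ⟨a', ha', ea⟩ := Subgroup.mem_map.1 ha
      rw [← ea, ← map_pow, elementary_qSub.2 a' ha', map_one]
  have hc : Nat.card (qSub.map e.toMonoidHom) = 2 ^ 11 :=
    (Subgroup.card_map_of_injective e.injective).trans card_qSub
  obtain ⟨g₁, h₁⟩ := E.exists_at _ hel hc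
  obtain ⟨g₂, h₂⟩ := E.exists_at V hV hcard
  let f : J ≃* G := e.trans (MulAut.conj (g₂ * g₁⁻¹))
  have hV' : qSub.map f.toMonoidHom = V := by
    rw [show f.toMonoidHom = (MulAut.conj (g₂ * g₁⁻¹)).toMonoidHom.comp e.toMonoidHom from rfl,
      ← Subgroup.map_map, ← h₁, ← h₂]
    show (E.V.map (MulAut.conj g₁).toMonoidHom).map (MulAut.conj (g₂ * g₁⁻¹)).toMonoidHom =
      E.V.map (MulAut.conj g₂).toMonoidHom
    rw [Subgroup.map_map]
    congr 1
    ext x
    simp [mul_assoc]
  refine orbits_transfer f (Subgroup.eq_of_le_of_card_ge ?_ ?_)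
  · rw [← hV']
    exact (Subgroup.map_mono subH_le_normalizer).trans (Subgroup.map_equiv_normalizer_eq qSub f).le
  · have hW := E.conjEleven g₂
    rw [Subgroup.card_map_of_injective f.injective, subH_card_index.1]
    set D := E.conjEleven g₂
    have hle : D.K ≤ Subgroup.normalizer (D.V : Set G) := le_sup_left.trans D.sup.le
    have hN : Nat.card (Subgroup.normalizer (D.V : Set G)) ≤ Nat.card D.K * Nat.card D.V := by
      rw [← Nat.card_prod]
      refine Nat.card_le_card_of_surjective (fun p : D.K × D.V =>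
        (⟨(p.1 : G) * p.2, mul_mem (hle p.1.2) (Subgroup.le_normalizer p.2.2)⟩ :
          Subgroup.normalizer (D.V : Set G))) fun m => ?_
      have hm : (m : G) ∈ ((D.K ⊔ D.V : Subgroup G) : Set G) := by rw [D.sup]; exact m.2
      rw [Subgroup.coe_mul_of_left_le_normalizer_right D.K D.V hle] at hm
      obtain ⟨a, ha, b, hb, eab⟩ := Set.mem_mul.1 hm
      exact ⟨(⟨a, ha⟩, ⟨b, hb⟩), Subtype.ext eab⟩
    rw [D.cardK, D.card, CfsgLib.Spor.natCard_M24] at hN
    rw [← h₂]
    exact hN.trans (by norm_num)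

end CfsgLib.Spor.J4.Suborbits
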